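import Mathlib.LinearAlgebra.Eigenspace.Basic
import Mathlib.RingTheory.Noetherian.Basic
import Mathlib.RingTheory.Finiteness.Basic
import Mathlib.Order.SupIndep
import Mathlib.Data.Finsupp.Basic

/-! Simultaneous diagonalisation inside a locally finite module over a Noetherian algebra. -/

set_option autoImplicit false

universe u v w x

namespace Groth.Agent.MiscAlg

section

variable {k : Type u} [Field k] {V : Type w} [AddCommGroup V] [Module k V]

/-- Eigencomponents of a vector in a stable subspace lie in the subspace. -/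
lemma mem_iSup_inf_eigenspace (f : Module.End k V) (p : Submodule k V) (hp : ∀ x ∈ p, f x ∈ p)
    {v : V} (hv : v ∈ p) (hv' : v ∈ ⨆ μ, f.eigenspace μ) : v ∈ ⨆ μ, p ⊓ f.eigenspace μ := by
  classical
  obtain ⟨c, hc, rfl⟩ := (Submodule.mem_iSup_iff_exists_finsupp _ _).1 hv'
  have key : ∀ (s : Finset k) (d : k → V), (∀ μ ∈ s, d μ ∈ f.eigenspace μ) →
      ∑ μ ∈ s, d μ ∈ p → ∀ μ ∈ s, d μ ∈ p := by
    intro s
    induction s using Finset.induction_on with
    | empty => simp
    | @insert μ₀ s hμ₀ ih =>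
      intro d hd hsum μ hμ
      have he : ∀ ν ∈ insert μ₀ s, f (d ν) = ν • d ν := fun ν hν =>
        Module.End.mem_eigenspace_iff.1 (hd ν hν)
      have h1 : ∑ ν ∈ s, (ν - μ₀) • d ν ∈ p := by
        have := p.sub_mem (hp _ hsum) (p.smul_mem μ₀ hsum)
        rw [map_sum, Finset.smul_sum, ← Finset.sum_sub_distrib, Finset.sum_insert hμ₀] at this
        rw [he μ₀ (Finset.mem_insert_self _ _), sub_self, zero_add] at this
        convert this using 1
        exact Finset.sum_congr rfl fun ν hν => by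
          rw [he ν (Finset.mem_insert_of_mem hν), sub_smul]
      have h2 : ∀ ν ∈ s, d ν ∈ p := by
        intro ν hν
        have := ih (fun ν => (ν - μ₀) • d ν)
          (fun ν' h' => Submodule.smul_mem _ _ (hd ν' (Finset.mem_insert_of_mem h'))) h1 ν hν
        have hne : ν - μ₀ ≠ 0 := sub_ne_zero.2 fun h => hμ₀ (h ▸ hν)
        simpa [inv_smul_smul₀ hne] using p.smul_mem (ν - μ₀)⁻¹ this
      rcases Finset.mem_insert.1 hμ with rfl | hμ
      · rw [Finset.sum_insert hμ₀] at hsum
        simpa using p.sub_mem hsum (p.sum_mem h2)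
      · exact h2 μ hμ
  refine Submodule.sum_mem _ fun μ hμ => Submodule.mem_iSup_of_mem μ ⟨?_, hc μ⟩
  exact key c.support c (fun μ _ => hc μ) hv μ hμ

lemma eigen_of_sq (f : Module.End k V) (μ : k) {a : V} (ha : a ∈ ⨆ ν, f.eigenspace ν)
    (h : f a - μ • a ∈ f.eigenspace μ) : f a - μ • a = 0 := by
  have h2 : f a - μ • a ∈ ⨆ ν ∈ {ν | ν ≠ μ}, f.eigenspace ν := by
    clear h
    refine Submodule.iSup_induction _
      (motive := fun a => f a - μ • a ∈ ⨆ ν ∈ {ν | ν ≠ μ}, f.eigenspace ν) ha
      (fun ν x hx => ?_) ?_ (fun x y hx hy => ?_)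
    · rw [Module.End.mem_eigenspace_iff.1 hx, ← sub_smul]
      by_cases hν : ν = μ
      · simp [hν]
      · exact Submodule.smul_mem _ _
          (Submodule.mem_iSup_of_mem ν (Submodule.mem_iSup_of_mem hν hx))
    · simp
    · rw [map_add, smul_add, add_sub_add_comm]
      exact add_mem hx hy
  exact Submodule.disjoint_def.1 ((Module.End.eigenspaces_iSupIndep f).disjoint_biSup
    (show μ ∉ {ν : k | ν ≠ μ} from fun h => h rfl)) _ h h2

end

theorem iSup_iInf_eigenspace_eq_top
    (k : Type u) [Field k] (R : Type v) [CommRing R] [Algebra k R] [IsNoetherianRing R]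
    (V : Type w) [AddCommGroup V] [Module R V] [Module k V] [IsScalarTower k R V]
    (ι : Type x) (f : ι → Module.End R V)
    (hcomm : ∀ i j, Commute (f i) (f j))
    (hdiag : ∀ i, ⨆ μ : k, Module.End.eigenspace ((f i).restrictScalars k) μ = ⊤)
    (hfin : ∀ v : V, ∃ W : Submodule R V, v ∈ W ∧ W.FG ∧ ∀ i, ∀ w ∈ W, f i w ∈ W) :
    ⨆ χ : ι → k, ⨅ i, Module.End.eigenspace ((f i).restrictScalars k) (χ i) = ⊤ := by
  set T := ⨆ χ : ι → k, ⨅ i, Module.End.eigenspace ((f i).restrictScalars k) (χ i)
  rw [eq_top_iff]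
  rintro v -
  obtain ⟨W, hvW, hW, hWs⟩ := hfin v
  have : IsNoetherian R W := isNoetherian_of_fg_of_noetherian W hW
  suffices ∀ (C : Submodule R W) (A : Submodule R V), A ≤ W → (∀ i, ∀ a ∈ A, f i a ∈ A) →
      Disjoint A (C.map W.subtype) → ∀ a ∈ A, a ∈ T from
    this ⊥ W le_rfl hWs (by simp) v hvW
  intro C
  induction C using IsNoetherian.induction with
  | _ C ih =>
    intro A hAW hA hdisj a haA
    by_cases hsc : ∀ i, ∃ μ : k, ∀ x ∈ A, f i x = μ • x
    · choose χ hχ using hsc
      exact Submodule.mem_iSup_of_mem χ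
        ((Submodule.mem_iInf _).2 fun i => Module.End.mem_eigenspace_iff.2 (hχ i a haA))
    · push Not at hsc
      obtain ⟨i, hi⟩ := hsc
      have hmem : a ∈ ⨆ μ : k, A.restrictScalars k ⊓ Module.End.eigenspace ((f i).restrictScalars k) μ :=
        mem_iSup_inf_eigenspace _ _ (fun x hx => hA i x hx) haA (by rw [hdiag i]; trivial)
      refine (iSup_le (a := T) fun μ => ?_) hmem
      intro b hb
      let g : Module.End R V := f i - algebraMap k R μ • LinearMap.id
      have hg : ∀ x, g x = f i x - μ • x := fun x => by simp [g]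
      have hgA : ∀ x ∈ A, g x ∈ A := fun x hx => by
        rw [hg, ← algebraMap_smul R μ x]; exact A.sub_mem (hA i x hx) (A.smul_mem _ hx)
      let C' : Submodule R W := C ⊔ (A.map g).comap W.subtype
      have hlt : C < C' := by
        refine left_lt_sup.2 fun hle => ?_
        obtain ⟨x, hx, hx'⟩ := hi μ
        have hgx : g x ∈ A := hgA x hx
        have : (⟨g x, hAW hgx⟩ : W) ∈ C := hle ⟨x, hx, rfl⟩
        have h0 := Submodule.disjoint_def.1 hdisj _ hgx ⟨_, this, rfl⟩
        rw [hg, sub_eq_zero] at h0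
        exact hx' h0
      refine ih C' hlt (A ⊓ LinearMap.ker g) (inf_le_left.trans hAW) (fun j x hx => ?_) ?_ b
        ⟨hb.1, by
          change g b = 0
          rw [hg, sub_eq_zero]
          exact Module.End.mem_eigenspace_iff.1 hb.2⟩
      · refine ⟨hA j x hx.1, ?_⟩
        have hc := LinearMap.congr_fun (hcomm i j).eq x
        have hx0 : g x = 0 := hx.2
        rw [hg, sub_eq_zero] at hx0
        change g (f j x) = 0
        rw [hg, sub_eq_zero]
        have : f i (f j x) = f j (f i x) := hc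
        rw [this, hx0, ← algebraMap_smul R μ x, map_smul, algebraMap_smul]
      · rw [Submodule.disjoint_def]
        rintro x hx ⟨y, hy, rfl⟩
        obtain ⟨c, hc, d, ⟨z, hz, hzd⟩, rfl⟩ := Submodule.mem_sup.1 hy
        rw [map_add] at hx ⊢
        have hdA : W.subtype d ∈ A := hzd ▸ hgA z hz
        have hc0 : W.subtype c = 0 :=
          Submodule.disjoint_def.1 hdisj _ (by simpa using A.sub_mem hx.1 hdA) ⟨c, hc, rfl⟩
        rw [hc0, zero_add] at hx ⊢
        rw [← hzd, hg] at hx ⊢
        refine eigen_of_sq ((f i).restrictScalars k) μ (by rw [hdiag i]; trivial) ?_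
        have h2 : g (f i z - μ • z) = 0 := hx.2
        rw [hg, sub_eq_zero] at h2
        exact Module.End.mem_eigenspace_iff.2 h2

end Groth.Agent.MiscAlg
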