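import Mathlib.Algebra.Lie.Basic
import Mathlib.LinearAlgebra.Basis.Defs
import Mathlib.LinearAlgebra.Basis.Basic
import Mathlib.Algebra.BigOperators.Fin
import Mathlib.Tactic.Module
import Mathlib.Tactic.LinearCombination

/-! Three dimensional Lie algebras with an abelian ideal of rank two. -/

set_option autoImplicit false

universe u v w

namespace Groth.Agent.MiscAlg

variable {A : Type u} [CommRing A] {L : Type v} [LieRing L] [LieAlgebra A L]
  (b : Module.Basis (Fin 3) A L)

lemma expand (u : L) : u = b.repr u 0 • b 0 + b.repr u 1 • b 1 + b.repr u 2 • b 2 := by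
  conv_lhs => rw [← b.sum_repr u, Fin.sum_univ_three]

lemma bracket_expand {p q : L} (h1 : ⁅b 0, b 1⁆ = p) (h2 : ⁅b 0, b 2⁆ = q)
    (h3 : ⁅b 1, b 2⁆ = 0) (u v : L) :
    ⁅u, v⁆ = (b.repr u 0 * b.repr v 1 - b.repr u 1 * b.repr v 0) • p +
      (b.repr u 0 * b.repr v 2 - b.repr u 2 * b.repr v 0) • q := by
  conv_lhs => rw [expand b u, expand b v]
  have h10 : ⁅b 1, b 0⁆ = -p := by rw [← lie_skew, h1]
  have h20 : ⁅b 2, b 0⁆ = -q := by rw [← lie_skew, h2]
  have h21 : ⁅b 2, b 1⁆ = 0 := by rw [← lie_skew, h3, neg_zero]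
  simp only [add_lie, lie_add, smul_lie, lie_smul, lie_self, h1, h2, h3, h10, h20, h21]
  module

lemma repr_lin (r s t : A) (i : Fin 3) :
    b.repr (r • b 0 + s • b 1 + t • b 2) i = ![r, s, t] i := by
  fin_cases i <;> simp

/-- A linear equivalence compatible with the brackets of basis vectors. -/
noncomputable def lieEquivOfBasis {L' : Type w} [LieRing L'] [LieAlgebra A L']
    (e : L ≃ₗ[A] L') (h : ∀ i j, e ⁅b i, b j⁆ = ⁅e (b i), e (b j)⁆) : L ≃ₗ⁅A⁆ L' :=
  { e with
    map_lie' := fun {x y} => by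
      change e ⁅x, y⁆ = ⁅e x, e y⁆
      rw [← b.sum_repr x, ← b.sum_repr y]
      simp only [sum_lie, lie_sum, smul_lie, lie_smul, map_sum, map_smul, h] }

end Groth.Agent.MiscAlg
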